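import Mathlib
import Cfsg.Agent.LieClassical.OrthCore

/-!
# S2452, `Ω_(2n+1)(q)`, box D1b: involutory isometries with rank one corners (helper461)
-/

set_option autoImplicit false

namespace Cfsg.Agent.H461.TW

open Module QuadraticMap Cfsg.Agent.LieClassical.OrthCore

variable {F V : Type*} [Field F] [AddCommGroup V] [Module F V] {Q : QuadraticForm F V}

/-- nondegenerate on a subspace -/
def NDon (Q : QuadraticForm F V) (W : Submodule F V) : Prop := ∀ x ∈ W, (∀ y ∈ W, polar Q x y = 0) → x = 0

theorem NDon.exists_ne {W : Submodule F V} (h : NDon Q W) (hW : W ≠ ⊥) : ∃ u ∈ W, Q u ≠ 0 := by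
  obtain ⟨x, hx, hx0⟩ := (Submodule.ne_bot_iff W).1 hW
  by_contra hc
  push Not at hc
  apply hx0
  apply h x hx
  intro y hy
  have h1 := Q_add (Q := Q) x y
  rw [hc _ (W.add_mem hx hy), hc x hx, hc y hy] at h1
  linear_combination -h1

/-- the orthogonal space of `u` in `W` -/
def cut (Q : QuadraticForm F V) (W : Submodule F V) (u : V) : Submodule F V := W ⊓ LinearMap.ker (polarBilin Q u)

theorem mem_cut {W : Submodule F V} {u w : V} : w ∈ cut Q W u ↔ w ∈ W ∧ polar Q u w = 0 := by
  rw [cut, Submodule.mem_inf, LinearMap.mem_ker]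
  rfl

theorem NDon.cut (h2 : (2 : F) ≠ 0) {W : Submodule F V} (h : NDon Q W) {u : V} (hu : u ∈ W) (hq : Q u ≠ 0) :
    NDon Q (cut Q W u) := by
  intro x hx hx2
  rw [mem_cut] at hx
  apply h x hx.1
  intro y hy
  have h1 := hx2 (y - (polar Q u y / (2 * Q u)) • u) (by
    rw [mem_cut]
    refine ⟨W.sub_mem hy (W.smul_mem _ hu), ?_⟩
    rw [polar_sub_right, polar_smul_right, polar_self', smul_eq_mul]
    field_simp
    ring)
  rw [polar_sub_right, polar_smul_right, polar_comm _ x u, hx.2, smul_zero, sub_zero] at h1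
  exact h1

theorem finrank_cut [FiniteDimensional F V] (W : Submodule F V) (u : V) :
    finrank F W ≤ finrank F (cut Q W u) + 1 := by
  let f : W →ₗ[F] F := (polarBilin Q u).comp W.subtype
  have h1 := LinearMap.finrank_range_add_finrank_ker f
  have h2 : finrank F (LinearMap.range f) ≤ 1 := by
    have := Submodule.finrank_le (LinearMap.range f)
    rwa [finrank_self] at this
  have h3 : finrank F (LinearMap.ker f) ≤ finrank F (cut Q W u) := by
    have h4 : (LinearMap.ker f).map W.subtype ≤ cut Q W u := by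
      rintro _ ⟨x, hx, rfl⟩
      rw [mem_cut]
      exact ⟨x.2, hx⟩
    have h5 : finrank F ((LinearMap.ker f).map W.subtype) = finrank F (LinearMap.ker f) :=
      LinearEquiv.finrank_eq (Submodule.equivSubtypeMap W (LinearMap.ker f)).symm
    rw [← h5]
    exact Submodule.finrank_mono h4
  omega

theorem ne_bot_of_finrank {W : Submodule F V} (h : 1 ≤ finrank F W) : W ≠ ⊥ := by
  rintro rfl
  rw [finrank_bot] at h
  omega

theorem odd_card [Finite F] (h2 : (2 : F) ≠ 0) [Fintype F] : Fintype.card F % 2 = 1 := by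
  apply FiniteField.odd_card_of_char_ne_two
  intro hc
  apply h2
  have := CharP.cast_eq_zero F (ringChar F)
  rw [hc] at this
  exact_mod_cast this

theorem NDon.exists_eq [Finite F] [FiniteDimensional F V] (h2 : (2 : F) ≠ 0) {W : Submodule F V} (h : NDon Q W)
    (hW : 2 ≤ finrank F W) (c : F) (_ : c ≠ 0) : ∃ w ∈ W, Q w = c := by
  classical
  have : Fintype F := Fintype.ofFinite F
  obtain ⟨u, hu, hu0⟩ := h.exists_ne (ne_bot_of_finrank (by omega))
  have h3 := finrank_cut (Q := Q) W u
  obtain ⟨v, hv, hv0⟩ := (h.cut h2 hu hu0).exists_ne (ne_bot_of_finrank (by omega))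
  rw [mem_cut] at hv
  have hd1 : (Polynomial.C (Q u) * Polynomial.X ^ 2 : Polynomial F).degree = 2 := by
    rw [Polynomial.degree_C_mul_X_pow 2 hu0]; rfl
  have hd2 : (Polynomial.C (Q v) * Polynomial.X ^ 2 + Polynomial.C (-c) : Polynomial F).degree = 2 := by
    rw [Polynomial.degree_add_C, Polynomial.degree_C_mul_X_pow 2 hv0]
    · rfl
    · rw [Polynomial.degree_C_mul_X_pow 2 hv0]
      exact_mod_cast (by norm_num : (0 : ℕ) < 2)
  obtain ⟨a, b, hab⟩ := FiniteField.exists_root_sum_quadratic hd1 hd2 (odd_card h2)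
  refine ⟨a • u + b • v, W.add_mem (W.smul_mem _ hu) (W.smul_mem _ hv.1), ?_⟩
  rw [Q_add, QuadraticMap.map_smul, QuadraticMap.map_smul, polar_smul_left, polar_smul_right, hv.2]
  simp only [Polynomial.eval_add, Polynomial.eval_mul, Polynomial.eval_C, Polynomial.eval_pow,
    Polynomial.eval_X] at hab
  simp only [smul_eq_mul, mul_zero, add_zero]
  linear_combination hab

/-- two orthogonal eigenspaces of dimensions `≥ 2` contradict the rank one condition -/
theorem no_mix [Finite F] [FiniteDimensional F V] (h2 : (2 : F) ≠ 0) {A B : Submodule F V} (hA : NDon Q A)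
    (hB : NDon Q B) (hAB : ∀ a ∈ A, ∀ b ∈ B, polar Q a b = 0) (hdA : 2 ≤ finrank F A) (hdB : 3 ≤ finrank F B)
    {g : V ≃ₗ[F] V} {ε : F} (he : ε ≠ 0) (hgA : ∀ a ∈ A, g a = ε • a) (hgB : ∀ b ∈ B, g b = -(ε • b))
    (hR : ∀ x y : V, Q x = 0 → Q y = 0 → polar Q x y = 0 →
      polar Q (g x) x * polar Q (g y) y = polar Q (g x) y * polar Q (g y) x) : False := by
  obtain ⟨u, hu, hu0⟩ := hA.exists_ne (ne_bot_of_finrank (by omega))
  have h3 := finrank_cut (Q := Q) A u
  obtain ⟨v, hv, hv0⟩ := (hA.cut h2 hu hu0).exists_ne (ne_bot_of_finrank (by omega))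
  rw [mem_cut] at hv
  obtain ⟨w, hw, hw0⟩ := hB.exists_eq h2 (by omega) (-Q u) (neg_ne_zero.2 hu0)
  have hwn : Q w ≠ 0 := by rw [hw0]; exact neg_ne_zero.2 hu0
  have h4 := finrank_cut (Q := Q) B w
  obtain ⟨t, ht, ht0⟩ := (hB.cut h2 hw hwn).exists_eq h2 (by omega) (-Q v) (neg_ne_zero.2 hv0)
  rw [mem_cut] at ht
  have p1 : polar Q u w = 0 := hAB u hu w hw
  have p2 : polar Q v t = 0 := hAB v hv.1 t ht.1
  have p3 : polar Q u t = 0 := hAB u hu t ht.1
  have p4 : polar Q v w = 0 := hAB v hv.1 w hw
  have p5 : polar Q w t = 0 := ht.2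
  have p6 : polar Q u v = 0 := hv.2
  have c1 : polar Q w u = 0 := by rw [polar_comm]; exact p1
  have c2 : polar Q t v = 0 := by rw [polar_comm]; exact p2
  have c3 : polar Q t u = 0 := by rw [polar_comm]; exact p3
  have c4 : polar Q w v = 0 := by rw [polar_comm]; exact p4
  have c5 : polar Q t w = 0 := by rw [polar_comm]; exact p5
  have c6 : polar Q v u = 0 := by rw [polar_comm]; exact p6
  have h5 := hR (u + w) (v + t) (by rw [Q_add, hw0, p1]; ring) (by rw [Q_add, ht0, p2]; ring)
    (by simp only [polar_add_left, polar_add_right, p3, c4, p5, p6, add_zero])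
  simp only [map_add, hgA u hu, hgA v hv.1, hgB w hw, hgB t ht.1, polar_add_left, polar_add_right, polar_neg_left,
    polar_smul_left, p1, p2, p3, p4, p5, p6, c1, c2, c3, c4, c5, c6, polar_self', hw0, ht0, smul_eq_mul, mul_zero,
    neg_zero, add_zero, zero_add] at h5
  have h6 : (2 : F) ^ 4 * ε ^ 2 * Q u * Q v = 0 := by linear_combination h5
  have : (2 : F) ^ 4 * ε ^ 2 * Q u * Q v ≠ 0 := mul_ne_zero (mul_ne_zero (mul_ne_zero (pow_ne_zero _ h2) (pow_ne_zero _ he)) hu0) hv0
  exact this h6

/-- **Box D1b** -/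
theorem R1_refl [Finite F] [FiniteDimensional F V] (h2 : (2 : F) ≠ 0) (hQ : Nondeg Q) (hd : 7 ≤ finrank F V)
    {g : V ≃ₗ[F] V} (hg : g ∈ O Q)
    (hR : ∀ x y : V, Q x = 0 → Q y = 0 → polar Q x y = 0 →
      polar Q (g x) x * polar Q (g y) y = polar Q (g x) y * polar Q (g y) x)
    (hsq : ∀ v, g (g v) = v) :
    (∃ c : F, ∀ v, g v = c • v) ∨ ∃ z, Q z ≠ 0 ∧ ((∀ v, g v = v - (polar Q z v / Q z) • z) ∨
      (∀ v, g v = (polar Q z v / Q z) • z - v)) := by
  let P : Submodule F V := LinearMap.ker (g.toLinearMap - LinearMap.id)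
  let N : Submodule F V := LinearMap.ker (g.toLinearMap + LinearMap.id)
  have mP : ∀ v, v ∈ P ↔ g v = v := fun v => by
    rw [LinearMap.mem_ker, LinearMap.sub_apply, LinearMap.id_apply, sub_eq_zero]; rfl
  have mN : ∀ v, v ∈ N ↔ g v = -v := fun v => by
    rw [LinearMap.mem_ker, LinearMap.add_apply, LinearMap.id_apply, add_eq_zero_iff_eq_neg]; rfl
  have hPN : ∀ a ∈ P, ∀ b ∈ N, polar Q a b = 0 := by
    intro a ha b hb
    have h1 := polar_map hg a b
    rw [(mP a).1 ha, (mN b).1 hb, polar_neg_right] at h1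
    have h3 : (2 : F) * polar Q a b = 0 := by linear_combination -h1
    exact (mul_eq_zero.1 h3).resolve_left h2
  have hNP : ∀ a ∈ N, ∀ b ∈ P, polar Q a b = 0 := fun a ha b hb => by rw [polar_comm]; exact hPN b hb a ha
  have add_mem' : ∀ v, v + g v ∈ P := fun v => by rw [mP, map_add, hsq, add_comm]
  have sub_mem' : ∀ v, v - g v ∈ N := fun v => by rw [mN, map_sub, hsq, neg_sub]
  have hsum : ∀ v, (2 : F) • v = (v + g v) + (v - g v) := fun v => by rw [two_smul]; abel
  have hP : NDon Q P := by
    intro x hx hx2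
    apply hQ x
    intro y
    have h1 : (2 : F) * polar Q x y = 0 := by
      rw [← smul_eq_mul, ← polar_smul_right, hsum y, polar_add_right, hx2 _ (add_mem' y), hPN x hx _ (sub_mem' y),
        add_zero]
    exact (mul_eq_zero.1 h1).resolve_left h2
  have hN : NDon Q N := by
    intro x hx hx2
    apply hQ x
    intro y
    have h1 : (2 : F) * polar Q x y = 0 := by
      rw [← smul_eq_mul, ← polar_smul_right, hsum y, polar_add_right, hx2 _ (sub_mem' y), hNP x hx _ (add_mem' y),
        add_zero]
    exact (mul_eq_zero.1 h1).resolve_left h2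
  have htop : P ⊔ N = ⊤ := by
    rw [eq_top_iff]
    intro v _
    have h1 : v = (2 : F)⁻¹ • (v + g v) + (2 : F)⁻¹ • (v - g v) := by
      rw [← smul_add, ← hsum v, smul_smul, inv_mul_cancel₀ h2, one_smul]
    rw [h1]
    exact Submodule.add_mem_sup (P.smul_mem _ (add_mem' v)) (N.smul_mem _ (sub_mem' v))
  have hfr : finrank F V ≤ finrank F P + finrank F N := by
    have := Submodule.finrank_add_le_finrank_add_finrank P N
    rwa [htop, finrank_top] at this
  rcases Nat.lt_or_ge (finrank F N) 2 with hn | hn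
  · rcases Nat.eq_zero_or_pos (finrank F N) with h0 | h0
    · left
      refine ⟨1, fun v => ?_⟩
      rw [Submodule.finrank_eq_zero] at h0
      have := sub_mem' v
      rw [h0, Submodule.mem_bot, sub_eq_zero] at this
      rw [one_smul, ← this]
    · right
      obtain ⟨⟨z, hz⟩, hz0, hz1⟩ := finrank_eq_one_iff'.1 (by omega : finrank F N = 1)
      have hz2 : ∀ w ∈ N, ∃ c : F, c • z = w := fun w hw => by
        obtain ⟨c, hc⟩ := hz1 ⟨w, hw⟩
        exact ⟨c, congrArg Subtype.val hc⟩
      have hzz : z ≠ 0 := fun h => hz0 (Subtype.ext h)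
      have hq : Q z ≠ 0 := by
        intro hq
        apply hzz
        apply hN z hz
        intro y hy
        obtain ⟨c, rfl⟩ := hz2 y hy
        rw [polar_smul_right, polar_self_of_sing hq, smul_zero]
      refine ⟨z, hq, Or.inl fun v => ?_⟩
      obtain ⟨c, hc⟩ := hz2 _ (sub_mem' v)
      have h1 : polar Q z (g v) = -polar Q z v := by
        have := polar_map hg z (g v)
        rw [(mN z).1 hz, hsq, polar_neg_left] at this
        exact this.symm
      have h3 : c * (2 * Q z) = 2 * polar Q z v := by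
        have := congrArg (polar Q z) hc
        rw [polar_smul_right, polar_self', polar_sub_right, h1, smul_eq_mul] at this
        rw [this]; ring
      have h4 : c = polar Q z v / Q z := by
        rw [eq_div_iff hq]
        apply mul_left_cancel₀ h2
        linear_combination h3
      rw [← h4, hc]
      abel
  · rcases Nat.lt_or_ge (finrank F P) 2 with hp | hp
    · rcases Nat.eq_zero_or_pos (finrank F P) with h0 | h0
      · left
        refine ⟨-1, fun v => ?_⟩
        rw [Submodule.finrank_eq_zero] at h0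
        have := add_mem' v
        rw [h0, Submodule.mem_bot] at this
        rw [neg_one_smul]
        exact eq_neg_of_add_eq_zero_right this
      · right
        obtain ⟨⟨z, hz⟩, hz0, hz1⟩ := finrank_eq_one_iff'.1 (by omega : finrank F P = 1)
        have hz2 : ∀ w ∈ P, ∃ c : F, c • z = w := fun w hw => by
          obtain ⟨c, hc⟩ := hz1 ⟨w, hw⟩
          exact ⟨c, congrArg Subtype.val hc⟩
        have hzz : z ≠ 0 := fun h => hz0 (Subtype.ext h)
        have hq : Q z ≠ 0 := by
          intro hq
          apply hzz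
          apply hP z hz
          intro y hy
          obtain ⟨c, rfl⟩ := hz2 y hy
          rw [polar_smul_right, polar_self_of_sing hq, smul_zero]
        refine ⟨z, hq, Or.inr fun v => ?_⟩
        obtain ⟨c, hc⟩ := hz2 _ (add_mem' v)
        have h1 : polar Q z (g v) = polar Q z v := by
          have := polar_map hg z (g v)
          rw [(mP z).1 hz, hsq] at this
          exact this.symm
        have h3 : c * (2 * Q z) = 2 * polar Q z v := by
          have := congrArg (polar Q z) hc
          rw [polar_smul_right, polar_self', polar_add_right, h1, smul_eq_mul] at this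
          rw [this]; ring
        have h4 : c = polar Q z v / Q z := by
          rw [eq_div_iff hq]
          apply mul_left_cancel₀ h2
          linear_combination h3
        rw [← h4, hc]
        abel
    · exfalso
      rcases Nat.lt_or_ge (finrank F N) 3 with hn3 | hn3
      · exact no_mix h2 hN hP hNP hn (by omega) (g := g) (ε := -1) (neg_ne_zero.2 one_ne_zero)
          (fun a ha => by rw [(mN a).1 ha, neg_one_smul]) (fun b hb => by rw [(mP b).1 hb, neg_one_smul, neg_neg]) hR
      · exact no_mix h2 hP hN hPN hp hn3 (g := g) (ε := 1) one_ne_zero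
          (fun a ha => by rw [(mP a).1 ha, one_smul]) (fun b hb => by rw [(mN b).1 hb, one_smul]) hR

end Cfsg.Agent.H461.TW
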